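import Mathlib
import Groth.Prelude.Def_NonAbH1

set_option backward.isDefEq.respectTransparency false
set_option backward.isDefEq.respectTransparency.types false
set_option linter.style.haveILetI false
set_option autoImplicit false

universe w w' v u

open CategoryTheory Category Limits Opposite

namespace Groth.Agent.CechTorsor

variable {C : Type u} [Category.{v} C] {J : GrothendieckTopology C} (G : Sheaf J GrpCat.{w})

theorem isSheaf_forget : Presieve.IsSheaf J (G.obj ⋙ forget GrpCat.{w}) :=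
  Presieve.isSheaf_iso J (Functor.isoWhiskerLeft G.obj GrpCat.coyonedaObjIsoForget) (G.property _)

theorem res_res {A B T : C} (k : A ⟶ B) (f : B ⟶ T) (z : G.obj.obj (op T)) :
    G.obj.map k.op (G.obj.map f.op z) = G.obj.map (k ≫ f).op z := by
  rw [op_comp, G.obj.map_comp]
  rfl

theorem sep {T : C} {S : Sieve T} (hS : S ∈ J T) {a b : G.obj.obj (op T)}
    (h : ∀ ⦃V : C⦄ (f : V ⟶ T), S f → G.obj.map f.op a = G.obj.map f.op b) : a = b :=
  (isSheaf_forget G S hS).isSeparatedFor.ext h

theorem glue {T : C} {S : Sieve T} (hS : S ∈ J T) (x : ∀ ⦃V : C⦄ (f : V ⟶ T), S f → G.obj.obj (op V))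
    (hx : ∀ ⦃V W : C⦄ (k : W ⟶ V) (f : V ⟶ T) (hf : S f), G.obj.map k.op (x f hf) = x (k ≫ f) (S.downward_closed hf k)) :
    ∃ a : G.obj.obj (op T), ∀ ⦃V : C⦄ (f : V ⟶ T) (hf : S f), G.obj.map f.op a = x f hf := by
  let xx : Presieve.FamilyOfElements (G.obj ⋙ forget GrpCat.{w}) S.arrows := fun V f hf => x f hf
  have hc : xx.Compatible := by
    intro Y₁ Y₂ Z g₁ g₂ f₁ f₂ h₁ h₂ hcomp
    change G.obj.map g₁.op (x f₁ h₁) = G.obj.map g₂.op (x f₂ h₂)
    rw [hx g₁ f₁ h₁, hx g₂ f₂ h₂]
    simp only [hcomp]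
  obtain ⟨a, ha, -⟩ := isSheaf_forget G S hS _ hc
  exact ⟨a, ha⟩

variable {I : Type w'} (U : I → C) (γ : PresheafOfGroups.OneCocycle G.obj U)

/-- Sections of the torsor of a cocycle, before shrinking. -/
@[ext]
structure Sec (T : C) where
  val : ∀ (i : I) ⦃V : C⦄ (_ : V ⟶ T) (_ : V ⟶ U i), G.obj.obj (op V)
  natural : ∀ (i : I) ⦃V V' : C⦄ (φ : V' ⟶ V) (g : V ⟶ T) (a : V ⟶ U i),
    G.obj.map φ.op (val i g a) = val i (φ ≫ g) (φ ≫ a)
  cocycle : ∀ (i j : I) ⦃V : C⦄ (g : V ⟶ T) (a : V ⟶ U i) (b : V ⟶ U j),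
    val j g b = val i g a * γ.ev i j a b

variable {G U γ}

def Sec.res {T T' : C} (f : T' ⟶ T) (x : Sec G U γ T) : Sec G U γ T' where
  val i _ g a := x.val i (g ≫ f) a
  natural i V V' φ g a := (x.natural i φ (g ≫ f) a).trans (by rw [Category.assoc])
  cocycle i j _ g a b := x.cocycle i j (g ≫ f) a b

def Sec.smul {T : C} (h : G.obj.obj (op T)) (x : Sec G U γ T) : Sec G U γ T where
  val i _ g a := G.obj.map g.op h * x.val i g a
  natural i V V' φ g a := by rw [map_mul, res_res, x.natural]
  cocycle i j _ g a b := by rw [x.cocycle i j g a b, _root_.mul_assoc]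

def base {T : C} (i₀ : I) (a₀ : T ⟶ U i₀) : Sec G U γ T where
  val j _ g b := γ.ev i₀ j (g ≫ a₀) b
  natural j V V' φ g b := by rw [γ.ev_precomp, Category.assoc]
  cocycle i j _ g a b := (γ.ev_trans i₀ i j _ a b).symm

variable (hU : J.CoversTop U)
include hU

theorem existsUnique_smul {T : C} (x y : Sec G U γ T) : ∃! h : G.obj.obj (op T), Sec.smul h x = y := by
  have hS := hU T
  have ind : ∀ {V : C} (f : V ⟶ T) (i j : I) (a : V ⟶ U i) (b : V ⟶ U j),
      y.val j f b * (x.val j f b)⁻¹ = y.val i f a * (x.val i f a)⁻¹ := fun f i j a b => by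
    rw [x.cocycle i j f a b, y.cocycle i j f a b]
    group
  obtain ⟨h, hh⟩ := glue G hS
    (fun V f hf => y.val hf.choose f hf.choose_spec.some * (x.val hf.choose f hf.choose_spec.some)⁻¹)
    (fun V W k f hf => by
      rw [map_mul, map_inv, x.natural, y.natural]
      exact ind (k ≫ f) _ _ _ _)
  refine ⟨h, ?_, fun h' hh' => ?_⟩
  · ext i V g a
    change G.obj.map g.op h * x.val i g a = y.val i g a
    rw [hh g ⟨i, ⟨a⟩⟩, ind g i _ a _, inv_mul_cancel_right]
  · refine sep G hS fun V f hf => ?_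
    rw [hh f hf]
    have := congrArg (fun z : Sec G U γ T => z.val hf.choose f hf.choose_spec.some) hh'
    exact eq_mul_inv_of_mul_eq this

theorem small (T : C) : Small.{w} (Sec G U γ T) := by
  rcases isEmpty_or_nonempty (Sec G U γ T) with h | ⟨⟨x⟩⟩
  · infer_instance
  · exact small_of_surjective (f := fun h : G.obj.obj (op T) => Sec.smul h x)
      fun y => (existsUnique_smul hU x y).exists

theorem sheafCond {T : C} {S : Sieve T} (hS : S ∈ J T) (z : ∀ ⦃V : C⦄ (f : V ⟶ T), S f → Sec G U γ V)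
    (hz : ∀ ⦃V W : C⦄ (k : W ⟶ V) (f : V ⟶ T) (hf : S f), Sec.res k (z f hf) = z (k ≫ f) (S.downward_closed hf k)) :
    ∃! x : Sec G U γ T, ∀ ⦃V : C⦄ (f : V ⟶ T) (hf : S f), Sec.res f x = z f hf := by
  have key : ∀ (i : I) ⦃V : C⦄ (g : V ⟶ T) (a : V ⟶ U i), ∃ v : G.obj.obj (op V),
      ∀ ⦃W : C⦄ (k : W ⟶ V) (hk : S (k ≫ g)), G.obj.map k.op v = (z (k ≫ g) hk).val i (𝟙 W) (k ≫ a) := by
    intro i V g a
    obtain ⟨v, hv⟩ := glue G (J.pullback_stable g hS) (fun W k hk => (z (k ≫ g) hk).val i (𝟙 W) (k ≫ a))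
      (fun W W' l k hk => by
        rw [(z (k ≫ g) hk).natural, Category.comp_id]
        have := congrArg (fun s : Sec G U γ W' => s.val i (𝟙 W') (l ≫ k ≫ a)) (hz l (k ≫ g) hk)
        simp only [Sec.res, Category.id_comp] at this
        rw [this]
        simp only [Category.assoc])
    exact ⟨v, fun W k hk => hv k hk⟩
  choose v hv using key
  refine ⟨⟨v, fun i V V' φ g a => ?_, fun i j V g a b => ?_⟩, fun V f hf => ?_, fun x hx => ?_⟩
  · refine sep G (J.pullback_stable (φ ≫ g) hS) fun W k hk => ?_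
    have hk' : S ((k ≫ φ) ≫ g) := by rw [Category.assoc]; exact hk
    rw [res_res, hv i (φ ≫ g) (φ ≫ a) k hk, hv i g a (k ≫ φ) hk']
    simp only [Category.assoc]
  · refine sep G (J.pullback_stable g hS) fun W k hk => ?_
    rw [map_mul, hv j g b k hk, hv i g a k hk, γ.ev_precomp]
    exact (z _ hk).cocycle i j _ _ _
  · ext i W g a
    change v i (g ≫ f) a = (z f hf).val i g a
    have h := hv i (g ≫ f) a (𝟙 W) (by rw [Category.id_comp]; exact S.downward_closed hf g)
    simp only [op_id, CategoryTheory.Functor.map_id, Category.id_comp] at h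
    refine Eq.trans h ?_
    rw [← hz g f hf]
    simp [Sec.res]
  · ext i V g a
    refine sep G (J.pullback_stable g hS) fun W k hk => ?_
    rw [hv i g a k hk, x.natural]
    have := congrArg (fun s : Sec G U γ W => s.val i (𝟙 W) (k ≫ a)) (hx (k ≫ g) hk)
    simpa [Sec.res] using this

omit hU in
theorem Sec.res_id {T : C} (x : Sec G U γ T) : Sec.res (𝟙 T) x = x := by
  ext i V g a
  simp [Sec.res]

omit hU in
theorem Sec.res_comp {T T' T'' : C} (f : T' ⟶ T) (f' : T'' ⟶ T') (x : Sec G U γ T) :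
    Sec.res (f' ≫ f) x = Sec.res f' (Sec.res f x) := by
  ext i V g a
  simp [Sec.res]

theorem exists_torsor (c : PresheafOfGroups.H1 G.obj U) (hc : γ.class = c) :
    ∃ P : NonAbH1.Torsor G, P.TrivialisedBy U ∧ P.HasCechClass U c := by
  haveI : ∀ T, Small.{w} (Sec G U γ T) := small hU
  let F : Cᵒᵖ ⥤ Type w :=
    { obj := fun T => Shrink.{w} (Sec G U γ T.unop)
      map := fun f => TypeCat.ofHom fun x => equivShrink _ (Sec.res f.unop ((equivShrink _).symm x))
      map_id := fun T => by ext x; simp [Sec.res_id]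
      map_comp := fun f g => by ext x; simp [Sec.res_comp] }
  have hF : Presieve.IsSheaf J F := by
    intro T S hS z hz
    obtain ⟨x, hx, hu⟩ := sheafCond hU hS (fun V f hf => (equivShrink _).symm (z f hf))
      (fun V W k f hf => by
        apply (equivShrink _).injective
        rw [Equiv.apply_symm_apply]
        exact (Presieve.compatible_iff_sieveCompatible z).1 hz f k hf |>.symm)
    refine ⟨equivShrink _ x, fun V f hf => ?_, fun y hy => ?_⟩
    · change equivShrink _ (Sec.res f ((equivShrink _).symm (equivShrink _ x))) = z f hf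
      rw [Equiv.symm_apply_apply, hx f hf, Equiv.apply_symm_apply]
    · rw [← Equiv.symm_apply_eq]
      refine hu _ fun V f hf => (Equiv.eq_symm_apply _).2 ?_
      exact hy f hf
  let P : NonAbH1.GSheaf G :=
    { P := ⟨F, (isSheaf_iff_isSheaf_of_type J F).2 hF⟩
      smul := fun {T} h x => equivShrink _ (Sec.smul h ((equivShrink _).symm x))
      one_smul := fun p => by
        rw [← Equiv.eq_symm_apply]
        ext i V g a
        simp [Sec.smul]
        rfl
      mul_smul := fun g h p => by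
        refine congrArg _ ?_
        rw [Equiv.symm_apply_apply]
        ext i V k a
        simp [Sec.smul, _root_.mul_assoc]
      map_smul := fun {T T'} f h p => by
        change equivShrink _ (Sec.res f.unop ((equivShrink _).symm (equivShrink _ _))) =
          equivShrink _ (Sec.smul _ ((equivShrink _).symm (equivShrink _ _)))
        rw [Equiv.symm_apply_apply, Equiv.symm_apply_apply]
        refine congrArg _ ?_
        ext i V g a
        simp only [Sec.smul, Sec.res]
        congr 1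
        exact (res_res G g f.unop h).symm }
  have hP : P.IsTorsor := by
    refine ⟨fun T p q => ?_, fun T => ⟨_, hU T, fun V f hf => ⟨equivShrink _ (base hf.choose hf.choose_spec.some)⟩⟩⟩
    refine ((existsUnique_smul hU ((equivShrink _).symm p) ((equivShrink _).symm q))).imp fun h => ?_
    rintro ⟨h1, h2⟩
    exact ⟨(Equiv.eq_symm_apply _).1 h1, fun y hy => h2 y ((Equiv.eq_symm_apply _).2 hy)⟩
  let s : ∀ i, P.P.obj.obj (op (U i)) := fun i => equivShrink _ (base i (𝟙 _))
  refine ⟨⟨P, hP⟩, fun i => ⟨s i⟩, s, γ, fun i j T a b => ?_, hc⟩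
  change equivShrink _ (Sec.smul _ ((equivShrink _).symm (equivShrink _ (Sec.res b ((equivShrink _).symm (s j)))))) =
    equivShrink _ (Sec.res a ((equivShrink _).symm (s i)))
  simp only [s, Equiv.symm_apply_apply]
  refine congrArg _ ?_
  ext k V g c'
  simp only [Sec.smul, Sec.res, base, Category.comp_id, γ.ev_precomp, γ.ev_trans]

end Groth.Agent.CechTorsor
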